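import Groth.Agent.EtModHLib.Cech
import Groth.Agent.RDerLib.LeftExact
import Groth.Prelude.Def_EtBC2
import Mathlib.CategoryTheory.Sites.LocallySurjective

/-!
# Underlying abelian sheaves of injective sheaves of modules are acyclic for direct images
-/

set_option autoImplicit false
set_option linter.unusedSectionVars false
set_option linter.style.haveILetI false
set_option backward.isDefEq.respectTransparency false
set_option backward.isDefEq.respectTransparency.types false
set_option synthInstance.maxHeartbeats 400000
set_option maxHeartbeats 2000000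

universe u

open CategoryTheory CategoryTheory.Limits CategoryTheory.Abelian AlgebraicGeometry Opposite
open Groth.Agent

noncomputable section

namespace EtModPBCLib

theorem isZero_Rpush_cechAcy {X Y : Scheme.{u}} (g : X ⟶ Y) : ∀ (n : ℕ) (G : EtCoh.Ab X),
    EtModHLib.CechAcy G → IsZero ((EtCoh.Rpush g (n + 1)).obj G) := by
  haveI : PreservesLimitsOfSize.{0, 0} (EtCoh.push g) := (EtCoh.pullPushAdj g).rightAdjoint_preservesLimits
  haveI : PreservesFiniteLimits (EtCoh.push g) := PreservesLimitsOfSize.preservesFiniteLimits _
  haveI : (EtCoh.push g).Additive := { }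
  intro n
  induction n with
  | zero =>
    intro G hG
    haveI : Injective (CohLib.injSC G).X₂ := inferInstanceAs (Injective (Injective.under G))
    refine RDerLib.isZero_X₁_succ (CohLib.injSC_shortExact G) 0
      ((EtCoh.push g).isZero_rightDerived_obj_injective_succ 0 (CohLib.injSC G).X₂) ?_
    rw [RDerLib.epi_map_g_iff]
    haveI : Sheaf.IsLocallySurjective ((EtCoh.push g).map (CohLib.injSC G).g) := by
      constructor
      intro W t
      refine GrothendieckTopology.superset_covering _ (fun V h _ => ?_) (GrothendieckTopology.top_mem _ _)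
      exact EtModHLib.surjective_sections_all (CohLib.injSC_shortExact G) hG ((EtCoh.bc g).obj V) _
    exact (Sheaf.isLocallySurjective_iff_epi' (J := Y.smallEtaleTopology) (A := AddCommGrpCat.{u + 1}) _).1 inferInstance
  | succ n ih =>
    intro G hG
    haveI : Injective (CohLib.injSC G).X₂ := inferInstanceAs (Injective (Injective.under G))
    refine RDerLib.isZero_X₁_succ (CohLib.injSC_shortExact G) (n + 1)
      ((EtCoh.push g).isZero_rightDerived_obj_injective_succ (n + 1) (CohLib.injSC G).X₂) ?_
    exact ⟨fun a b _ =>
      (ih _ (EtModHLib.cechAcy_quotient (CohLib.injSC_shortExact G) hG)).eq_of_src a b⟩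

theorem isZero_Rpush_forget (Λ : Type (u + 1)) [CommRing Λ] {X Y : Scheme.{u}} (g : X ⟶ Y)
    (I : EtModW.Mod Λ X) [Injective I] (q : ℕ) (hq : 0 < q) :
    IsZero ((EtCoh.Rpush g q).obj ((EtModD.forgetToAb Λ X).obj I)) := by
  obtain ⟨n, rfl⟩ : ∃ n, q = n + 1 := ⟨q - 1, by omega⟩
  exact isZero_Rpush_cechAcy g n _ (EtModHLib.cechAcy_forget_injective Λ I)

end EtModPBCLib

end
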