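import Groth.Prelude.Def_SixF1
import Groth.Prelude.Def_EtModD2
import Groth.Agent.EpsLib.ModComm
import Groth.Agent.EtShLib.Constructible
import Groth.Agent.EtShLib.PushStalk

/-!
# The underlying abelian sheaf of a sheaf of modules and inverse images
-/

set_option autoImplicit false
set_option linter.unusedSectionVars false
set_option linter.style.haveILetI false
set_option backward.isDefEq.respectTransparency false
set_option backward.isDefEq.respectTransparency.types false
set_option synthInstance.maxHeartbeats 400000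
set_option maxHeartbeats 2000000

universe u

open CategoryTheory CategoryTheory.Limits AlgebraicGeometry Opposite
open Groth.Agent Groth.Agent.EtShLib

noncomputable section

namespace EtModPBCLib

variable (Λ : Type (u + 1)) [CommRing Λ] {X Y : Scheme.{u}}

theorem forget_pfl (X : Scheme.{u}) : PreservesFiniteLimits (EtModD.forgetToAb Λ X) := by
  let J := X.smallEtaleTopology
  haveI : PreservesFiniteLimits (EtModD.forgetToAb Λ X ⋙ sheafToPresheaf J AddCommGrpCat.{u + 1}) := by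
    haveI : PreservesFiniteLimits (sheafToPresheaf J (ModuleCat.{u + 1} Λ) ⋙
        (Functor.whiskeringRight _ _ _).obj (EpsLib.UF Λ)) := comp_preservesFiniteLimits _ _
    exact preservesFiniteLimits_of_natIso (NatIso.ofComponents (fun M => Iso.refl _) :
      sheafToPresheaf J (ModuleCat.{u + 1} Λ) ⋙ (Functor.whiskeringRight _ _ _).obj (EpsLib.UF Λ) ≅ _)
  exact preservesFiniteLimits_of_reflects_of_preserves _ (sheafToPresheaf J AddCommGrpCat.{u + 1})

theorem forget_pfc (X : Scheme.{u}) : PreservesFiniteColimits (EtModD.forgetToAb Λ X) := by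
  haveI := (EpsLib.adjC Λ X.smallEtaleTopology).leftAdjoint_preservesColimits
  infer_instance

theorem forget_reflectsIso (X : Scheme.{u}) : (EtModD.forgetToAb Λ X).ReflectsIsomorphisms := by
  refine ⟨fun {M N} f _ => ?_⟩
  haveI : ∀ V, IsIso (f.hom.app V) := fun V => by
    haveI : IsIso ((EpsLib.UF Λ).map (f.hom.app V)) :=
      inferInstanceAs (IsIso (((sheafToPresheaf X.smallEtaleTopology AddCommGrpCat.{u + 1}).map
        ((EtModD.forgetToAb Λ X).map f)).app V))
    exact isIso_of_reflects_iso (f.hom.app V) (EpsLib.UF Λ)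
  haveI : IsIso ((sheafToPresheaf X.smallEtaleTopology (ModuleCat.{u + 1} Λ)).map f) := by
    show IsIso f.hom
    exact NatIso.isIso_of_isIso_app _
  exact isIso_of_reflects_iso f (sheafToPresheaf X.smallEtaleTopology (ModuleCat.{u + 1} Λ))

/-- Comparison of the inverse images of a sheaf of modules and of its underlying abelian sheaf. -/
def alpha (g : Y ⟶ X) (M : EtModW.Mod Λ X) :
    (EtCoh.pull g).obj ((EtModD.forgetToAb Λ X).obj M) ⟶
      (EtModD.forgetToAb Λ Y).obj ((EtModW.pull Λ g).obj M) :=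
  ((EtCoh.pullPushAdj g).homEquiv _ _).symm
    ((EtModD.forgetToAb Λ X).map ((EtSix.pullPushModAdj Λ g).unit.app M))

theorem alpha_natural (g : Y ⟶ X) {M N : EtModW.Mod Λ X} (φ : M ⟶ N) :
    (EtCoh.pull g).map ((EtModD.forgetToAb Λ X).map φ) ≫ alpha Λ g N =
      alpha Λ g M ≫ (EtModD.forgetToAb Λ Y).map ((EtModW.pull Λ g).map φ) := by
  rw [alpha, alpha, ← Adjunction.homEquiv_naturality_left_symm, ← Adjunction.homEquiv_naturality_right_symm]
  refine congrArg _ (((EtModD.forgetToAb Λ X).map_comp _ _).symm.trans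
    ((congrArg _ ((EtSix.pullPushModAdj Λ g).unit.naturality φ)).trans ?_))
  rw [Functor.map_comp]
  rfl

theorem unit_alpha (g : Y ⟶ X) (M : EtModW.Mod Λ X) :
    (EtCoh.pullPushAdj g).unit.app ((EtModD.forgetToAb Λ X).obj M) ≫ (EtCoh.push g).map (alpha Λ g M) =
      (EtModD.forgetToAb Λ X).map ((EtSix.pullPushModAdj Λ g).unit.app M) := by
  exact ((Adjunction.homEquiv_unit _ _ _ _).symm.trans (Equiv.apply_symm_apply _ _))

variable {Ω : Type u} [Field Ω] [IsSepClosed Ω]

/-- Germs of a sheaf of modules and of the underlying abelian sheaf agree. -/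
theorem germ_eq_iff_forget (ξ : Spec (CommRingCat.of Ω) ⟶ X) (M : EtModW.Mod Λ X) (U V : X.Etale) (u : Fib ξ U)
    (v : Fib ξ V) (s : M.obj.obj (op U)) (t : M.obj.obj (op V)) :
    germ (A := ModuleCat.{u + 1} Λ) ξ M U u s = germ (A := ModuleCat.{u + 1} Λ) ξ M V v t ↔
      germ (A := AddCommGrpCat.{u + 1}) ξ ((EtModD.forgetToAb Λ X).obj M) U u s =
        germ (A := AddCommGrpCat.{u + 1}) ξ ((EtModD.forgetToAb Λ X).obj M) V v t := by
  obtain ⟨⟨W, w⟩, g, h, -⟩ := IsCofilteredOrEmpty.cone_objs ((pt ξ).fiber.elementsMk U u) ((pt ξ).fiber.elementsMk V v)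
  have hg : Fib.map g.1 w = u := g.2
  have hh : Fib.map h.1 w = v := h.2
  constructor
  · intro e
    rw [← hg, ← hh, ← germ_res_apply, ← germ_res_apply] at e
    obtain ⟨W', k, w', hk, e'⟩ := (germ_eq_iff (A := ModuleCat.{u + 1} Λ) ξ W w _ _).1 e
    rw [← hg, ← hh, ← germ_res_apply, ← germ_res_apply]
    exact (germ_eq_iff (A := AddCommGrpCat.{u + 1}) ξ W w _ _).2 ⟨W', k, w', hk, e'⟩
  · intro e
    rw [← hg, ← hh, ← germ_res_apply, ← germ_res_apply] at e
    obtain ⟨W', k, w', hk, e'⟩ := (germ_eq_iff (A := AddCommGrpCat.{u + 1}) ξ W w _ _).1 e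
    rw [← hg, ← hh, ← germ_res_apply, ← germ_res_apply]
    exact (germ_eq_iff (A := ModuleCat.{u + 1} Λ) ξ W w _ _).2 ⟨W', k, w', hk, e'⟩

theorem isIso_alpha (g : Y ⟶ X) (M : EtModW.Mod Λ X) : IsIso (alpha Λ g M) := by
  refine isIso_of_stalks (A := AddCommGrpCat.{u + 1}) _ fun Ω _ _ ξ => ?_
  let FM := (EtModD.forgetToAb Λ X).obj M
  let N := (EtModW.pull Λ g).obj M
  let FN := (EtModD.forgetToAb Λ Y).obj N
  let S := stk (A := AddCommGrpCat.{u + 1}) ξ
  let β := (stalkPull g ξ AddCommGrpCat.{u + 1}).app FM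
  let γ := (stalkPull g ξ (ModuleCat.{u + 1} Λ)).app M
  let η := (EtSix.pullPushModAdj Λ g).unit.app M
  have key : ∀ (U : X.Etale) (u : Fib (ξ ≫ g) U) (s : M.obj.obj (op U)),
      S.map (alpha Λ g M) (β.hom (germ (A := AddCommGrpCat.{u + 1}) (ξ ≫ g) FM U u s)) =
        germ (A := AddCommGrpCat.{u + 1}) ξ FN ((EtCoh.bc g).obj U) (u.lift g ξ) (η.hom.app (op U) s) := by
    intro U u s
    have h1 : β.hom (germ (A := AddCommGrpCat.{u + 1}) (ξ ≫ g) FM U u s) =
        germ (A := AddCommGrpCat.{u + 1}) ξ ((EtCoh.pull g).obj FM) ((EtCoh.bc g).obj U) (u.lift g ξ)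
          (((EtCoh.pullPushAdj g).unit.app FM).hom.app (op U) s) :=
      ConcreteCategory.congr_hom (germ_stalkPull g ξ AddCommGrpCat.{u + 1} FM U u) s
    rw [h1]
    refine (germ_natural_apply ξ (alpha Λ g M) _ _ _).trans (congrArg _ ?_)
    exact ConcreteCategory.congr_hom (congrArg (fun φ : FM ⟶ (EtCoh.push g).obj FN => φ.hom.app (op U))
      (unit_alpha Λ g M)) s
  have key' : ∀ (U : X.Etale) (u : Fib (ξ ≫ g) U) (s : M.obj.obj (op U)),
      γ.hom (germ (A := ModuleCat.{u + 1} Λ) (ξ ≫ g) M U u s) =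
        germ (A := ModuleCat.{u + 1} Λ) ξ N ((EtCoh.bc g).obj U) (u.lift g ξ) (η.hom.app (op U) s) :=
    fun U u s => ConcreteCategory.congr_hom (germ_stalkPull g ξ (ModuleCat.{u + 1} Λ) M U u) s
  haveI : IsIso (β.hom) := inferInstance
  refine (ConcreteCategory.isIso_iff_bijective _).2 ⟨(injective_iff_map_eq_zero _).2 fun p hp => ?_, fun q => ?_⟩
  · obtain ⟨p', rfl⟩ := (ConcreteCategory.bijective_of_isIso β.hom).2 p
    obtain ⟨U, u, s, rfl⟩ := exists_germ (A := AddCommGrpCat.{u + 1}) (ξ ≫ g) p'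
    replace hp := (key U u s).symm.trans hp
    rw [← map_zero (germ (A := AddCommGrpCat.{u + 1}) ξ FN ((EtCoh.bc g).obj U) (u.lift g ξ)).hom] at hp
    have h2 := (germ_eq_iff_forget Λ ξ N _ _ (u.lift g ξ) (u.lift g ξ) (η.hom.app (op U) s) 0).2 hp
    rw [← key' U u s, map_zero] at h2
    have h3 : germ (A := ModuleCat.{u + 1} Λ) (ξ ≫ g) M U u s = germ (A := ModuleCat.{u + 1} Λ) (ξ ≫ g) M U u 0 :=
      ((ConcreteCategory.bijective_of_isIso γ.hom).1 (h2.trans (map_zero γ.hom.hom).symm)).trans (map_zero _).symm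
    have h4 := (germ_eq_iff_forget Λ (ξ ≫ g) M U U u u s 0).1 h3
    rw [show germ (A := AddCommGrpCat.{u + 1}) (ξ ≫ g) FM U u s = 0 from h4.trans (map_zero _), map_zero]
  · obtain ⟨V, v, t, rfl⟩ := exists_germ (A := AddCommGrpCat.{u + 1}) ξ q
    obtain ⟨p, hp⟩ := (ConcreteCategory.bijective_of_isIso γ.hom).2 (germ (A := ModuleCat.{u + 1} Λ) ξ N V v t)
    obtain ⟨U, u, s, rfl⟩ := exists_germ (A := ModuleCat.{u + 1} Λ) (ξ ≫ g) p
    rw [key'] at hp
    exact ⟨β.hom (germ (A := AddCommGrpCat.{u + 1}) (ξ ≫ g) FM U u s),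
      (key U u s).trans ((germ_eq_iff_forget Λ ξ N _ V _ v _ t).1 hp)⟩

end EtModPBCLib

end
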