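import Groth.Agent.EtModPBCLib.Forget
import Groth.Agent.EtModPBCLib.Acyc
import Groth.Agent.BcPlusLib.Main
import Groth.Agent.DerLib.LerayAcyclic
import Groth.Agent.EtBcBridgeLib.Local
import Groth.Agent.PBCDLib.Main

/-!
# Proper base change for sheaves of modules
-/

set_option autoImplicit false
set_option linter.all false
set_option backward.isDefEq.respectTransparency false
set_option backward.isDefEq.respectTransparency.types false
set_option synthInstance.maxHeartbeats 400000
set_option maxHeartbeats 2000000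

universe u

open CategoryTheory CategoryTheory.Limits AlgebraicGeometry Opposite
open Groth.Agent Groth.Agent.EtShLib EtBcBridgeLib EtBcDLib

attribute [local instance] HasDerivedCategory.standard
attribute [local instance] EtSliceLib.pullExact EtBcBridgeLib.pfl_push EtBcBridgeLib.pfc_pull

noncomputable section

namespace EtModPBCLib

variable (Λ : Type (u + 1)) [CommRing Λ] {X S X' S' : Scheme.{u}}

theorem pullMod_exact {A B : Scheme.{u}} (f : A ⟶ B) :
    PreservesFiniteLimits (EtModW.pull Λ f) ∧ PreservesFiniteColimits (EtModW.pull Λ f) :=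
  ⟨Groth.Agent.EtShLib.preservesFiniteLimits_pullA (A := ModuleCat.{u + 1} Λ) f,
    haveI := (EtSix.pullPushModAdj Λ f).leftAdjoint_preservesColimits; inferInstance⟩

variable (f : X ⟶ S) (g : S' ⟶ S) (f' : X' ⟶ S') (g' : X' ⟶ X) (w : g' ≫ f = f' ≫ g)

/-- Degree zero base change of modules and of the underlying abelian sheaves. -/
theorem alpha_baseChange0 (M : EtModW.Mod Λ X) :
    EtCoh.baseChange0 f g f' g' w ((EtModD.forgetToAb Λ X).obj M) ≫ (EtCoh.push f').map (alpha Λ g' M) =
      alpha Λ g ((EtModW.push Λ f).obj M) ≫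
        (EtModD.forgetToAb Λ S').map ((((EtSix.pullPushModAdj Λ g).homEquiv _ _).symm)
          ((EtSix.pushToPushPullMod Λ f g f' g' w).app M)) := by
  let F := EtModD.forgetToAb Λ X'
  apply ((EtCoh.pullPushAdj g).homEquiv _ _).injective
  rw [Adjunction.homEquiv_naturality_right, Adjunction.homEquiv_naturality_right]
  have hr : ((EtCoh.pullPushAdj g).homEquiv _ _) (alpha Λ g ((EtModW.push Λ f).obj M)) ≫
      (EtCoh.push g).map ((EtModD.forgetToAb Λ S').map
        (((EtSix.pullPushModAdj Λ g).homEquiv _ _).symm ((EtSix.pushToPushPullMod Λ f g f' g' w).app M))) =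
      (EtModD.forgetToAb Λ S).map ((EtSix.pushToPushPullMod Λ f g f' g' w).app M) := by
    rw [alpha, Equiv.apply_symm_apply]
    exact ((EtModD.forgetToAb Λ S).map_comp _ _).symm.trans (congrArg _
      ((Adjunction.homEquiv_unit _ _ _ _).symm.trans (Equiv.apply_symm_apply _ _)))
  refine Eq.trans ?_ hr.symm
  rw [EtCoh.baseChange0, Equiv.apply_symm_apply]
  have e := congrArg (fun φ => (EtCoh.push f).map φ) (unit_alpha Λ g' M)
  simp only [Functor.map_comp] at e
  simp only [Category.assoc]
  erw [← (EtCoh.pushComp g f').inv.naturality (alpha Λ g' M),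
    ← (EtCoh.pushCongr w).hom.naturality_assoc (alpha Λ g' M),
    ← (EtCoh.pushComp f g').hom.naturality_assoc (alpha Λ g' M), reassoc_of% e]
  rfl

variable [IsProper f]

theorem isIso_bcMapMod (hc : IsPullback g' f' f g)
    (adj : (EtModW.pull Λ g).rightDerivedFunctorPlus ⊣ (EtModW.push Λ g).rightDerivedFunctorPlus)
    (K : DerivedCategory.Plus (EtModW.Mod Λ X))
    (hK : ∀ i : ℤ, EtCoh.IsTorsion ((EtModD.forgetToAb Λ X).obj
      ((DerivedCategory.Plus.homologyFunctor (EtModW.Mod Λ X) i).obj K))) :
    IsIso (EtSix.bcMapMod Λ f g f' g' hc.w adj K) := by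
  haveI := (pullMod_exact Λ g).1
  haveI := (pullMod_exact Λ g).2
  haveI := (pullMod_exact Λ g').1
  haveI := (pullMod_exact Λ g').2
  haveI := forget_pfl Λ X
  haveI := forget_pfc Λ X
  haveI := forget_pfl Λ X'
  haveI := forget_pfc Λ X'
  haveI := forget_pfl Λ S'
  haveI := forget_pfc Λ S'
  haveI := forget_reflectsIso Λ S'
  haveI : (EtModD.forgetToAb Λ X).Additive := Functor.additive_of_preserves_binary_products _
  haveI : (EtModD.forgetToAb Λ X').Additive := Functor.additive_of_preserves_binary_products _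
  haveI : (EtModD.forgetToAb Λ S').Additive := Functor.additive_of_preserves_binary_products _
  haveI := hasRpush f
  haveI := hasRpush f'
  haveI := hasRpush g
  let C := EtModW.Mod Λ X
  let C' := EtModW.Mod Λ X'
  let F := EtModD.forgetToAb Λ X
  let F' := EtModD.forgetToAb Λ X'
  let FS := EtModD.forgetToAb Λ S'
  let up := ComplexShape.up ℤ
  -- injective representatives
  obtain ⟨n, hn⟩ := K.property
  haveI : K.obj.IsGE n := hn
  obtain ⟨Kc, hKc, ⟨eK⟩⟩ := DerivedCategory.exists_iso_Q_obj_of_isGE K.obj n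
  haveI := hKc
  obtain ⟨I, i, hI, hinj, -, hi⟩ := Groth.Agent.DerLib.Horseshoe.exists_injective_resolution Kc n
  haveI := hI
  haveI := hinj
  haveI := hi
  obtain ⟨L, j, hL, hLinj, -, hj⟩ :=
    Groth.Agent.DerLib.Horseshoe.exists_injective_resolution
      (((EtModW.pull Λ g').mapHomologicalComplex up).obj I) n
  haveI := hL
  haveI := hLinj
  haveI := hj
  let Ip : CochainComplex.Plus C := ⟨I, n, hI⟩
  let Lp : CochainComplex.Plus C' := ⟨L, n, hL⟩
  let T := (HomotopyCategory.Plus.quotient C).obj Ip
  let e : K ≅ DerivedCategory.Plus.Qh.obj T := DerivedCategory.Plus.ι.preimageIso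
    (eK ≪≫ asIso (DerivedCategory.Q.map i) ≪≫ (DerivedCategory.quotientCompQhIso C).symm.app I)
  suffices IsIso (EtSix.bcMapMod Λ f g f' g' hc.w adj (DerivedCategory.Plus.Qh.obj T)) from
    ((MorphismProperty.isomorphisms _).arrow_mk_iso_iff (Arrow.isoMk
      ((EtModW.pull Λ g).rightDerivedFunctorPlus.mapIso ((EtModW.push Λ f).rightDerivedFunctorPlus.mapIso e))
      ((EtModW.push Λ f').rightDerivedFunctorPlus.mapIso ((EtModW.pull Λ g').rightDerivedFunctorPlus.mapIso e))
      (by
        show _ ≫ (adj.homEquiv _ _).symm _ = (adj.homEquiv _ _).symm _ ≫ _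
        refine (adj.homEquiv_naturality_left_symm _ _).symm.trans
          (Eq.trans ?_ (adj.homEquiv_naturality_right_symm _ _))
        exact congrArg _ ((EtSix.bcAdjMod Λ f g f' g' hc.w).naturality e.hom)))).2 this
  haveI hiId : QuasiIso (((EtModW.push Λ f).mapHomologicalComplex up).map (𝟙 I)) := by
    rw [CategoryTheory.Functor.map_id]; infer_instance
  haveI hjId : QuasiIso (((EtModW.push Λ f').mapHomologicalComplex up).map (𝟙 L)) := by
    rw [CategoryTheory.Functor.map_id]; infer_instance
  refine BcPlusLib.isIso_transpose_desc (EtSix.pullPushModAdj Λ g) (EtSix.pushToPushPullMod Λ f g f' g' hc.w) adj T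
    ((Groth.Agent.DerLib.LerayAcyclic.isIso_unit_iff (EtModW.push Λ f) Ip I n (𝟙 I)).2 hiId)
    ((HomotopyCategory.Plus.quotient C').obj Lp) j hj
    ((Groth.Agent.DerLib.LerayAcyclic.isIso_unit_iff (EtModW.push Λ f') Lp L n (𝟙 L)).2 hjId) ?_
  -- the underlying complexes of abelian sheaves
  let FI := (F.mapHomologicalComplex up).obj I
  let FL := (F'.mapHomologicalComplex up).obj L
  haveI : CochainComplex.IsStrictlyGE FI n := inferInstance
  haveI : CochainComplex.IsStrictlyGE FL n := inferInstance
  haveI : CochainComplex.IsStrictlyGE (((EtCoh.pull g').mapHomologicalComplex up).obj FI) n :=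
    haveI : (EtCoh.pull g').Additive := (EtCoh.pullPushAdj g').left_adjoint_additive
    inferInstance
  haveI : (qh FI).IsGE n := DerivedCategory.TStructure.t.isGE_of_iso
    ((DerivedCategory.quotientCompQhIso (EtCoh.Ab X)).symm.app FI) n
  have hH : ∀ m : ℤ, EtCoh.IsTorsion (DCoh.HDEt (qh FI) m) := fun m =>
    haveI : IsIso (HomologicalComplex.homologyMap i m) :=
      (quasiIsoAt_iff_isIso_homologyMap i m).1 ((quasiIso_iff i).1 hi m)
    (PBCDLib.torsP X).prop_of_iso
      (F.mapIso ((DerivedCategory.homologyFunctor C m).mapIso eK ≪≫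
        (DerivedCategory.homologyFunctorFactors C m).app Kc ≪≫ asIso (HomologicalComplex.homologyMap i m)) ≪≫
        ((I.sc m).mapHomologyIso F).symm ≪≫
        ((DerivedCategory.homologyFunctor (EtCoh.Ab X) m).mapIso
            ((DerivedCategory.quotientCompQhIso (EtCoh.Ab X)).app FI) ≪≫
          (DerivedCategory.homologyFunctorFactors (EtCoh.Ab X) m).app FI).symm) (hK m)
  haveI hb : IsIso (EtBC.bcMap f g f' g' hc.w (canAdj g) (qh FI)) :=
    PBCDLib.isIso_bcMap f g f' g' hc (canAdj g) (qh FI) n hH
  haveI := PBCDLib.isIso_uR f FI n fun m q hq => by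
    haveI := hinj m
    exact isZero_Rpush_forget Λ f (I.X m) q hq
  haveI := PBCDLib.isIso_uR f' FL n fun m q hq => by
    haveI := hLinj m
    exact isZero_Rpush_forget Λ f' (L.X m) q hq
  haveI hmid : IsIso (midMap f g f' g' hc.w FI) := by
    have h := unit_bcMap f g f' g' hc.w FI
    let e1 := (EtCoh.pull g).mapDerivedCategoryFactorsh.hom.app
      (((EtCoh.push f).mapHomotopyCategory up).obj ((HomotopyCategory.quotient (EtCoh.Ab X) up).obj FI))
    haveI : IsIso (e1 ≫ midMap f g f' g' hc.w FI ≫ (DCoh.RpushEt X' f').map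
        ((EtCoh.pull g').mapDerivedCategoryFactorsh.inv.app ((HomotopyCategory.quotient (EtCoh.Ab X) up).obj FI))) :=
      h ▸ inferInstance
    haveI := IsIso.of_isIso_comp_left e1 (midMap f g f' g' hc.w FI ≫ (DCoh.RpushEt X' f').map
        ((EtCoh.pull g').mapDerivedCategoryFactorsh.inv.app ((HomotopyCategory.quotient (EtCoh.Ab X) up).obj FI)))
    exact IsIso.of_isIso_comp_right (midMap f g f' g' hc.w FI) ((DCoh.RpushEt X' f').map
        ((EtCoh.pull g').mapDerivedCategoryFactorsh.inv.app ((HomotopyCategory.quotient (EtCoh.Ab X) up).obj FI)))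
  -- the comparison with the resolution
  haveI : (EtCoh.pull g').Additive := (EtCoh.pullPushAdj g').left_adjoint_additive
  haveI : (EtCoh.pull g).Additive := (EtCoh.pullPushAdj g).left_adjoint_additive
  haveI : (EtCoh.push f').Additive := { }
  let κ := BcPlusLib.kappa (EtSix.pullPushModAdj Λ g) (EtSix.pushToPushPullMod Λ f g f' g' hc.w) I
  let al' : ((EtCoh.pull g').mapHomologicalComplex up).obj FI ⟶
      (F'.mapHomologicalComplex up).obj (((EtModW.pull Λ g').mapHomologicalComplex up).obj I) :=
    { f := fun m => alpha Λ g' (I.X m)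
      comm' := fun a b _ => (alpha_natural Λ g' (I.d a b)).symm }
  let al : ((EtCoh.pull g).mapHomologicalComplex up).obj (((EtCoh.push f).mapHomologicalComplex up).obj FI) ⟶
      (FS.mapHomologicalComplex up).obj (((EtModW.pull Λ g).mapHomologicalComplex up).obj
        (((EtModW.push Λ f).mapHomologicalComplex up).obj I)) :=
    { f := fun m => alpha Λ g ((EtModW.push Λ f).obj (I.X m))
      comm' := fun a b _ => (alpha_natural Λ g ((EtModW.push Λ f).map (I.d a b))).symm }
  haveI : ∀ m, IsIso (al'.f m) := fun m => isIso_alpha Λ g' (I.X m)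
  haveI : ∀ m, IsIso (al.f m) := fun m => isIso_alpha Λ g ((EtModW.push Λ f).obj (I.X m))
  haveI : IsIso al' := HomologicalComplex.Hom.isIso_of_components _
  haveI : IsIso al := HomologicalComplex.Hom.isIso_of_components _
  haveI : QuasiIso ((F'.mapHomologicalComplex up).map j) := inferInstance
  let φ : ((EtCoh.pull g').mapHomologicalComplex up).obj FI ⟶ FL := al' ≫ (F'.mapHomologicalComplex up).map j
  haveI hφ : QuasiIso φ := inferInstance
  let Q := HomotopyCategory.quotient (EtCoh.Ab X') up
  let QS := HomotopyCategory.quotient (EtCoh.Ab S') up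
  haveI : IsIso (DerivedCategory.Qh.map (Q.map φ)) :=
    Localization.inverts DerivedCategory.Qh (HomotopyCategory.quasiIso (EtCoh.Ab X') up) _
      ((HomotopyCategory.quotient_map_mem_quasiIso_iff φ).2 ((HomologicalComplex.mem_quasiIso_iff _).2 hφ))
  let kf := kappa f g f' g' hc.w FI ≫ ((EtCoh.push f').mapHomologicalComplex up).map φ
  haveI : IsIso (DerivedCategory.Qh.map (QS.map kf)) := by
    have nat : DerivedCategory.Qh.map (((EtCoh.push f').mapHomotopyCategory up).map (Q.map φ)) ≫
        (uR f').app (Q.obj FL) = (uR f').app (pullH g' FI) ≫ (DCoh.RpushEt X' f').map (DerivedCategory.Qh.map (Q.map φ)) :=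
      (uR f').naturality (Q.map φ)
    haveI : IsIso (DerivedCategory.Qh.map (QS.map kf) ≫ (uR f').app (Q.obj FL)) := by
      have h2 : DerivedCategory.Qh.map (QS.map kf) ≫ (uR f').app (Q.obj FL) =
          midMap f g f' g' hc.w FI ≫ (DCoh.RpushEt X' f').map (DerivedCategory.Qh.map (Q.map φ)) := by
        show DerivedCategory.Qh.map (QS.map (_ ≫ _)) ≫ _ = (_ ≫ _) ≫ _
        rw [Category.assoc, ← nat, Functor.map_comp, Functor.map_comp, Category.assoc]
        rfl
      rw [h2]
      infer_instance
    exact IsIso.of_isIso_comp_right _ ((uR f').app (Q.obj FL))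
  have hkf : QuasiIso kf := by
    haveI : IsIso (DerivedCategory.Q.map kf) :=
      (NatIso.isIso_map_iff (DerivedCategory.quotientCompQhIso (EtCoh.Ab S')) kf).1 ‹_›
    exact (DerivedCategory.isIso_Q_map_iff_quasiIso (EtCoh.Ab S') kf).1 inferInstance
  have heq : kf = al ≫ (FS.mapHomologicalComplex up).map
      (κ ≫ ((EtModW.push Λ f').mapHomologicalComplex up).map j) := by
    refine HomologicalComplex.hom_ext _ _ fun m => ?_
    refine (congrArg (EtCoh.baseChange0 f g f' g' hc.w (F.obj (I.X m)) ≫ ·) ((EtCoh.push f').map_comp (alpha Λ g' (I.X m)) (F'.map (j.f m)))).trans ?_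
    refine ((Category.assoc _ _ _).symm.trans (congrArg (· ≫ (EtCoh.push f').map (F'.map (j.f m)))
      (alpha_baseChange0 Λ f g f' g' hc.w (I.X m)))).trans ?_
    refine (Category.assoc _ _ _).trans (congrArg (alpha Λ g ((EtModW.push Λ f).obj (I.X m)) ≫ ·) ?_)
    exact (FS.map_comp (κ.f m) ((EtModW.push Λ f').map (j.f m))).symm
  have hF : QuasiIso ((FS.mapHomologicalComplex up).map (κ ≫ ((EtModW.push Λ f').mapHomologicalComplex up).map j)) := by
    rw [heq] at hkf
    exact quasiIso_of_comp_left al _
  exact (HomologicalComplex.quasiIso_map_iff_of_preservesHomology _ FS).1 hF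

end EtModPBCLib

end
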